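import Groth.Agent.ZClosFin.Algebra
import Groth.Agent.ZClosDepth.Basic
import Groth.Agent.QCohColim.Basic
import Groth.Agent.QCohLib.Criterion
import Groth.Agent.QCohLib.StalkLoc
import Mathlib

/-! Sections of the `Z`-closure over an affine open as families of germs. -/

set_option autoImplicit false
set_option linter.style.haveILetI false
set_option backward.isDefEq.respectTransparency false
universe u

open AlgebraicGeometry CategoryTheory CategoryTheory.Limits TopologicalSpace Opposite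
open Groth.Agent.QCohLib (germ_smul stalkHom stalkHom_germ)

namespace Groth.Agent.ZClosFin

section Alg

variable {A : Type u} [CommRing A] (Z : Set (PrimeSpectrum A)) {M N : Type u} [AddCommGroup M] [Module A M]
  [AddCommGroup N] [Module A N]

/-- A map, bijective at the points outside `Z`, with target detected outside `Z`, gives an embedding
of the target into the families of germs of the source. -/
theorem exists_embedding (w : M →ₗ[A] N)
    (hinj : ∀ (p : Out Z) (a : M) (s : A), s ∉ p.1.asIdeal → s • w a = 0 → ∃ t ∉ p.1.asIdeal, t • a = 0)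
    (hsurj : ∀ (p : Out Z) (n : N), ∃ s ∉ p.1.asIdeal, ∃ a, s • n = w a)
    (hpure : ∀ n : N, (∀ p : Out Z, ∃ t ∉ p.1.asIdeal, t • n = 0) → n = 0) :
    ∃ Φ : N →ₗ[A] G Z M, Function.Injective Φ ∧
      ∀ (n : N) (p : Out Z) (s : A) (a : M), s • n = w a → s • (Φ n).1 p = toLoc Z M p a := by
  have hb : ∀ p : Out Z, Function.Bijective (locMap Z w p) := fun p => by
    constructor
    · refine (injective_iff_map_eq_zero _).mpr fun c hc => ?_
      obtain ⟨⟨a, s⟩, hs⟩ := IsLocalizedModule.surj p.1.asIdeal.primeCompl (toLoc Z M p) c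
      have h0 : toLoc Z N p (w a) = 0 := by
        rw [← locMap_toLoc, ← hs, Submonoid.smul_def, map_smul, hc, smul_zero]
      obtain ⟨t, ht⟩ := (IsLocalizedModule.eq_zero_iff p.1.asIdeal.primeCompl (toLoc Z N p)).mp h0
      obtain ⟨t', ht', hta⟩ := hinj p a t t.2 ht
      apply smul_cancel Z s.2
      rw [smul_zero, ← Submonoid.smul_def, hs]
      exact (IsLocalizedModule.eq_zero_iff p.1.asIdeal.primeCompl (toLoc Z M p)).mpr ⟨⟨t', ht'⟩, hta⟩
    · intro c
      obtain ⟨⟨n, s⟩, hs⟩ := IsLocalizedModule.surj p.1.asIdeal.primeCompl (toLoc Z N p) c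
      obtain ⟨t, ht, a, ha⟩ := hsurj p n
      let t' : p.1.asIdeal.primeCompl := ⟨t, ht⟩
      refine ⟨IsLocalizedModule.mk' (toLoc Z M p) a (t' * s), ?_⟩
      apply smul_cancel Z (t' * s).2
      rw [← map_smul, ← Submonoid.smul_def, IsLocalizedModule.mk'_cancel', locMap_toLoc, ← ha, map_smul,
        ← hs, Submonoid.coe_mul, mul_smul, Submonoid.smul_def]
  let e := fun p : Out Z => LinearEquiv.ofBijective (locMap Z w p) (hb p)
  let Φ : N →ₗ[A] ∀ p : Out Z, Loc Z M p := LinearMap.pi fun p => (e p).symm.toLinearMap.comp (toLoc Z N p)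
  have key : ∀ (n : N) (p : Out Z) (s : A) (a : M), s • n = w a → s • Φ n p = toLoc Z M p a := fun n p s a h => by
    apply (hb p).1
    rw [map_smul, locMap_toLoc, ← h, map_smul]
    congr 1
    exact (e p).apply_symm_apply _
  refine ⟨LinearMap.codRestrict (G Z M) Φ fun n y => ?_, fun n n' h => ?_, key⟩
  · obtain ⟨s, hs, a, ha⟩ := hsurj y n
    exact ⟨s, hs, a, fun p _ => key n p s a ha⟩
  · refine sub_eq_zero.mp (hpure _ fun p => ?_)
    have h1 : toLoc Z N p (n - n') = 0 := by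
      have h2 := congrFun (congrArg Subtype.val h) p
      rw [map_sub, sub_eq_zero]
      exact (e p).symm.injective h2
    obtain ⟨t, ht⟩ := (IsLocalizedModule.eq_zero_iff p.1.asIdeal.primeCompl (toLoc Z N p)).mp h1
    exact ⟨t, t.2, ht⟩

end Alg

variable {X : Scheme.{u}} {Z : Set X}

theorem isQuasicoherent_H0 [IsLocallyNoetherian X] (F : X.Modules) [F.IsQuasicoherent] :
    ((ZClos.H0 Z).obj F).IsQuasicoherent := by
  refine QCohColim.isQuasicoherent_colimit _ fun T => ?_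
  change ((ZClos.resPush T.U).obj F).IsQuasicoherent
  haveI : ((Scheme.Modules.restrictFunctor T.U.ι).obj F).IsQuasicoherent :=
    inferInstanceAs (F.restrict T.U.ι).IsQuasicoherent
  exact QCohLib.isQuasicoherent_pushforward T.U.ι

/-- Sections over an affine open, over any ring `A` presenting its ring of functions. -/
theorem exists_embedding_sections [IsLocallyNoetherian X] (hZ : StableUnderSpecialization Z) (F : X.Modules)
    [F.IsQuasicoherent] {V : X.Opens} (hV : IsAffineOpen V) {A : Type u} [CommRing A] (σ : A →+* Γ(X, V))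
    (hσ : Function.Surjective σ) (pt : PrimeSpectrum A → X) (hptV : ∀ p, pt p ∈ V)
    (hpt : ∀ p a, pt p ∈ X.basicOpen (σ a) ↔ a ∉ p.asIdeal) (hsurj : ∀ x ∈ V, ∃ p, pt p = x)
    [Module A Γ(F, V)] (hF : ∀ (a : A) (m : Γ(F, V)), a • m = σ a • m)
    [Module A Γ((ZClos.H0 Z).obj F, V)] (hH : ∀ (a : A) (m : Γ((ZClos.H0 Z).obj F, V)), a • m = σ a • m) :
    ∃ Φ : Γ((ZClos.H0 Z).obj F, V) →ₗ[A] G (pt ⁻¹' Z) Γ(F, V), Function.Injective Φ ∧
      ∀ (n : Γ((ZClos.H0 Z).obj F, V)) (p : Out (pt ⁻¹' Z)) (s : A) (a : Γ(F, V)),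
        s • n = (ZClos.rhoApp Z F).app V a → s • (Φ n).1 p = toLoc (pt ⁻¹' Z) Γ(F, V) p a := by
  haveI := isQuasicoherent_H0 (Z := Z) F
  let H := (ZClos.H0 Z).obj F
  let ρ := ZClos.rhoApp Z F
  let w : Γ(F, V) →ₗ[A] Γ(H, V) :=
    { toFun := ρ.app V
      map_add' := map_add _
      map_smul' := fun a m => by rw [hF, RingHom.id_apply, hH, Scheme.Modules.Hom.app_smul] }
  have hb : ∀ p : Out (pt ⁻¹' Z), Function.Bijective (stalkHom ρ (pt p.1)) := fun p =>
    ZClosLib.stalkHom_rho_bijective F p.2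
  have hu : ∀ (p : PrimeSpectrum A) (a : A), a ∉ p.asIdeal → IsUnit (X.presheaf.germ V (pt p) (hptV p) (σ a)) :=
    fun p a ha => (X.mem_basicOpen (σ a) (pt p) (hptV p)).mp ((hpt p a).mpr ha)
  refine exists_embedding (pt ⁻¹' Z) w (fun p a s hs h => ?_) (fun p n => ?_) fun n hn => ?_
  · have h1 := congrArg (H.presheaf.germ V (pt p.1) (hptV p.1)) h
    rw [hH, germ_smul, map_zero, (hu p.1 s hs).smul_eq_zero] at h1
    change H.presheaf.germ V (pt p.1) (hptV p.1) (ρ.app V a) = 0 at h1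
    rw [← stalkHom_germ] at h1
    have h2 : F.presheaf.germ V (pt p.1) (hptV p.1) a = 0 := (hb p).1 (h1.trans (map_zero _).symm)
    obtain ⟨f, hf, hfa⟩ := (QCohLib.germ_eq_zero_iff hV _ _ a).mp h2
    obtain ⟨t, rfl⟩ := hσ f
    exact ⟨t, (hpt p.1 t).mp hf, (hF t a).trans hfa⟩
  · obtain ⟨m, hm⟩ := (hb p).2 (H.presheaf.germ V (pt p.1) (hptV p.1) n)
    obtain ⟨f, a, hf, hfa⟩ := QCohLib.exists_smul_eq_germ (M := F) hV (pt p.1) (hptV p.1) m
    obtain ⟨s, rfl⟩ := hσ f
    have h1 : H.presheaf.germ V (pt p.1) (hptV p.1) (σ s • n - ρ.app V a) = 0 := by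
      rw [map_sub, germ_smul, ← hm, ← stalkHom_germ, ← hfa, sub_eq_zero]
      exact ((QCohLib.stalkLinearMap ρ (pt p.1)).map_smul _ _).symm
    obtain ⟨f', hf', hfa'⟩ := (QCohLib.germ_eq_zero_iff hV _ _ _).mp h1
    obtain ⟨t, rfl⟩ := hσ f'
    refine ⟨t * s, fun h => (p.1.isPrime.mem_or_mem h).elim ((hpt p.1 t).mp hf') ((hpt p.1 s).mp hf), t • a, ?_⟩
    change _ = ρ.app V (t • a)
    rw [mul_smul, hF t a, Scheme.Modules.Hom.app_smul, hH t, hH s, ← sub_eq_zero, ← smul_sub]
    exact hfa'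
  · have hz : ∀ x (hx : x ∈ V), x ∉ Z → H.presheaf.germ V x hx n = 0 := fun x hx hxZ => by
      obtain ⟨p, rfl⟩ := hsurj x hx
      obtain ⟨t, ht, h⟩ := hn ⟨p, hxZ⟩
      have h1 := congrArg (H.presheaf.germ V (pt p) hx) h
      rwa [hH, germ_smul, map_zero, (hu p t ht).smul_eq_zero] at h1
    obtain ⟨T, hT⟩ := ZClosLib.exists_cut_eq_zero hZ H V n hz
    exact ZClosLib.injective_of_isZPure (ZClosLib.pure_of_closed (ZClosLib.isZClosed_H0 hZ F)) T V
      (hT.trans (ZClosLib.res_zero H _).symm)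

end Groth.Agent.ZClosFin
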