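import Groth.Agent.ZClosFin.Sections
import Groth.Agent.DepthSections.ZClosed
import Groth.Agent.QCohLib.Coherent
import Groth.Prelude.Def_EGA4c
import Groth.Prelude.Def_ZClos
import Mathlib

/-! Coherence criteria for the `Z`-closure. -/

set_option autoImplicit false
set_option linter.style.haveILetI false
set_option backward.isDefEq.respectTransparency false
universe u

open AlgebraicGeometry CategoryTheory CategoryTheory.Limits TopologicalSpace Opposite
open Groth.Agent.QCohLib (germ_smul stalkHom stalkHom_germ)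

namespace Groth.Agent.ZClosFin

variable {X : Scheme.{u}} {Z : Set X}

theorem mem_basicOpen_fromSpec {V : X.Opens} (hV : IsAffineOpen V) (p : PrimeSpectrum Γ(X, V)) (a : Γ(X, V)) :
    hV.fromSpec p ∈ X.basicOpen a ↔ a ∉ p.asIdeal := by
  rw [← Scheme.Hom.mem_preimage, hV.fromSpec_preimage_basicOpen]
  rfl

theorem primeIdealOf_fromSpec {V : X.Opens} (hV : IsAffineOpen V) (p : PrimeSpectrum Γ(X, V))
    (h : hV.fromSpec p ∈ V) : hV.primeIdealOf ⟨hV.fromSpec p, h⟩ = p :=
  hV.fromSpec.isOpenEmbedding.injective (hV.fromSpec_primeIdealOf _)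

/-- An associated prime of the sections is an associated point. -/
theorem mem_ass_of_mem_associatedPrimes [IsLocallyNoetherian X] (F : X.Modules) [F.IsQuasicoherent]
    {V : X.Opens} (hV : IsAffineOpen V) {x : X} (hx : x ∈ V)
    (h : (hV.primeIdealOf ⟨x, hx⟩).asIdeal ∈ associatedPrimes Γ(X, V) Γ(F, V)) : x ∈ AssSch.Ass F := by
  haveI : IsNoetherianRing Γ(X, V) := IsLocallyNoetherian.component_noetherian ⟨V, hV⟩
  letI : Algebra Γ(X, V) (X.presheaf.stalk x) := (X.presheaf.germ V x hx).hom.toAlgebra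
  haveI : IsLocalization.AtPrime (X.presheaf.stalk x) (hV.primeIdealOf ⟨x, hx⟩).asIdeal :=
    hV.isLocalization_stalk ⟨x, hx⟩
  letI := QCohLib.germModule F x hx
  haveI := QCohLib.isLocalizedModule_germ (M := F) hV x hx
  haveI : IsScalarTower Γ(X, V) (X.presheaf.stalk x) (F.presheaf.stalk x) :=
    IsScalarTower.of_algebraMap_smul fun _ _ => rfl
  change IsLocalRing.maximalIdeal (X.presheaf.stalk x) ∈ associatedPrimes (X.presheaf.stalk x) (F.presheaf.stalk x)
  rw [← Module.associatedPrimes.preimage_comap_associatedPrimes_eq_associatedPrimes_of_isLocalizedModule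
    (hV.primeIdealOf ⟨x, hx⟩).asIdeal.primeCompl (X.presheaf.stalk x) (QCohLib.germLinearMap F x hx),
    Set.mem_preimage]
  convert h using 1
  exact IsLocalization.AtPrime.under_maximalIdeal (R := Γ(X, V)) (X.presheaf.stalk x) _

/-- Coherence of the `Z`-closure from the associated points outside `Z`. -/
theorem isCoh_H0 [IsLocallyNoetherian X] (hZ : StableUnderSpecialization Z) (F : X.Modules) (hF : Coh.IsCoh F)
    (hcond : ∀ (V : X.Opens) (hV : IsAffineOpen V) (x : X) (hxV : x ∈ V), x ∈ AssSch.Ass F → x ∉ Z →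
      EGA4.HeightOneHullFinite (Γ(X, V) ⧸ (hV.primeIdealOf ⟨x, hxV⟩).asIdeal) ∧
        ∀ (y : X) (hyV : y ∈ V), y ∈ Z → x ⤳ y →
          ((hV.primeIdealOf ⟨y, hyV⟩).asIdeal.map
            (Ideal.Quotient.mk (hV.primeIdealOf ⟨x, hxV⟩).asIdeal)).height ≠ 1) :
    Coh.IsCoh ((ZClos.H0 Z).obj F) := by
  haveI := hF.1
  refine QCohLib.isCoh_iff.mpr ⟨isQuasicoherent_H0 F, fun ⟨V, hV⟩ => ?_⟩
  haveI : IsNoetherianRing Γ(X, V) := IsLocallyNoetherian.component_noetherian ⟨V, hV⟩
  haveI : Module.Finite Γ(X, V) Γ(F, V) := (QCohLib.isCoh_iff.mp hF).2 ⟨V, hV⟩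
  have hmem : ∀ p : PrimeSpectrum Γ(X, V), hV.fromSpec p ∈ V := fun p => hV.range_fromSpec.le ⟨p, rfl⟩
  obtain ⟨Φ, hΦ, -⟩ := exists_embedding_sections hZ F hV (RingHom.id _) Function.surjective_id
    (fun p => hV.fromSpec p) hmem (mem_basicOpen_fromSpec hV) (fun x hx => ⟨hV.primeIdealOf ⟨x, hx⟩, hV.fromSpec_primeIdealOf _⟩)
    (fun _ _ => rfl) (fun _ _ => rfl)
  have hspec : ∀ a b : PrimeSpectrum Γ(X, V), a ≤ b → hV.fromSpec a ⤳ hV.fromSpec b := fun a b h =>
    ((PrimeSpectrum.le_iff_specializes a b).mp h).map hV.fromSpec.continuous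
  haveI := isNoetherian_G ((fun p : PrimeSpectrum Γ(X, V) => hV.fromSpec p) ⁻¹' Z) (M := Γ(F, V))
    (fun a b ha hab => hZ (hspec a b hab) ha) fun p hp hpZ => by
      have hass : hV.fromSpec p ∈ AssSch.Ass F := mem_ass_of_mem_associatedPrimes F hV (hmem p) (by
        rw [primeIdealOf_fromSpec]; exact hp)
      obtain ⟨h1, h2⟩ := hcond V hV _ (hmem p) hass hpZ
      refine ⟨?_, fun y hy hpy => ?_⟩
      · rwa [primeIdealOf_fromSpec hV p] at h1
      · have h3 := h2 _ (hmem y) hy (hspec p y hpy)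
        rwa [primeIdealOf_fromSpec hV p, primeIdealOf_fromSpec hV y] at h3
  exact Module.Finite.of_injective Φ hΦ

/-- For `Z = T` closed, the closure is the direct image from the complement. -/
theorem nonempty_H0_iso_resPush (F : X.Modules) (T : Closeds X) :
    Nonempty ((ZClos.H0 (T : Set X)).obj F ≅
      (ZClos.resPush (X := X) ⟨(T : Set X)ᶜ, T.isClosed.isOpen_compl⟩).obj F) := by
  let top : ZClos.Cl (T : Set X) := ⟨T, subset_rfl⟩
  have ht : IsTerminal top := IsTerminal.ofUniqueHom (fun S => homOfLE (show S.1 ≤ T from S.2))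
    fun _ _ => Subsingleton.elim _ _
  haveI := isIso_ι_of_isTerminal ht ((ZClos.diagram (T : Set X)).obj F)
  exact ⟨(asIso (colimit.ι ((ZClos.diagram (T : Set X)).obj F) top)).symm⟩

/-- Coherent direct images force codimension two below associated points. -/
theorem height_ne_one [IsLocallyNoetherian X] (F : X.Modules) (T : ZClos.Cl Z)
    (hT : Coh.IsCoh ((ZClos.resPush T.U).obj F)) {V : X.Opens} (hV : IsAffineOpen V) {x y : X} (hx : x ∈ V)
    (hy : y ∈ V) (hass : x ∈ AssSch.Ass F) (hxT : x ∉ (T.1 : Set X)) (hyT : y ∈ (T.1 : Set X)) (h : x ⤳ y) :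
    ((hV.primeIdealOf ⟨y, hy⟩).asIdeal.map (Ideal.Quotient.mk (hV.primeIdealOf ⟨x, hx⟩).asIdeal)).height ≠ 1 := by
  have hT' : StableUnderSpecialization (T.1 : Set X) := T.1.isClosed.stableUnderSpecialization
  obtain ⟨e⟩ := nonempty_H0_iso_resPush F T.1
  have hH : Coh.IsCoh ((ZClos.H0 (T.1 : Set X)).obj F) := QCohLib.isCoh_of_iso e.symm hT
  haveI := hH.1
  haveI := CohFinite.finite_stalk hH y
  have hb : Function.Bijective (stalkHom (ZClos.rhoApp (T.1 : Set X) F) x) :=
    ZClosLib.stalkHom_rho_bijective F hxT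
  have hP := ZClosDepth.comap_mem_associatedPrimes _ h ((ZClosDepth.mem_ass_iff_of_bijective _ hb).mp hass)
  set P := (IsLocalRing.maximalIdeal (X.presheaf.stalk x)).comap (X.presheaf.stalkSpecializes h).hom
  have hdim : (2 : WithBot ℕ∞) ≤ ringKrullDim (X.presheaf.stalk y ⧸ P) :=
    le_trans (WithBot.coe_le_coe.mpr (ZClosDepth.two_le_depth_H0 hT' F hH y hyT))
      (DepthLib.depth_le_ringKrullDim_quotient hP)
  obtain ⟨l, hl⟩ := Order.le_krullDim_iff.mp (show ((2 : ℕ) : WithBot ℕ∞) ≤ _ from hdim)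
  obtain ⟨p, hp⟩ : ∃ p, p = (hV.primeIdealOf ⟨x, hx⟩).asIdeal := ⟨_, rfl⟩
  obtain ⟨q, hq⟩ : ∃ q, q = (hV.primeIdealOf ⟨y, hy⟩).asIdeal := ⟨_, rfl⟩
  rw [← hp, ← hq]
  haveI : p.IsPrime := hp ▸ inferInstance
  haveI : q.IsPrime := hq ▸ inferInstance
  letI : Algebra Γ(X, V) (X.presheaf.stalk y) := (X.presheaf.germ V y hy).hom.toAlgebra
  haveI : IsLocalization.AtPrime (X.presheaf.stalk y) q := hq ▸ hV.isLocalization_stalk ⟨y, hy⟩
  letI : Algebra Γ(X, V) (X.presheaf.stalk x) := (X.presheaf.germ V x hx).hom.toAlgebra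
  haveI : IsLocalization.AtPrime (X.presheaf.stalk x) p := hp ▸ hV.isLocalization_stalk ⟨x, hx⟩
  let π := (Ideal.Quotient.mk P).comp (algebraMap Γ(X, V) (X.presheaf.stalk y))
  have hker : RingHom.ker π = p := by
    ext r
    rw [RingHom.mem_ker, RingHom.comp_apply, Ideal.Quotient.eq_zero_iff_mem]
    change X.presheaf.stalkSpecializes h (X.presheaf.germ V y hy r) ∈ IsLocalRing.maximalIdeal _ ↔ _
    rw [TopCat.Presheaf.germ_stalkSpecializes_apply]
    exact IsLocalization.AtPrime.to_map_mem_maximal_iff (X.presheaf.stalk x) p r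
  let π' : Γ(X, V) ⧸ p →+* X.presheaf.stalk y ⧸ P := Ideal.Quotient.lift p π fun a ha => by
    rwa [← hker] at ha
  have hinj : ∀ Q Q' : PrimeSpectrum (X.presheaf.stalk y ⧸ P),
      Q.asIdeal.comap π' ≤ Q'.asIdeal.comap π' → Q ≤ Q' := fun Q Q' hle z hz => by
    obtain ⟨w, rfl⟩ := Ideal.Quotient.mk_surjective z
    obtain ⟨⟨a, s⟩, hs⟩ := IsLocalization.surj q.primeCompl w
    have h1 : π' (Ideal.Quotient.mk p a) = Ideal.Quotient.mk P (algebraMap Γ(X, V) _ a) :=
      Ideal.Quotient.lift_mk _ _ _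
    have h2 : Ideal.Quotient.mk p a ∈ Q.asIdeal.comap π' := by
      rw [Ideal.mem_comap, h1, ← hs, map_mul]
      exact Q.asIdeal.mul_mem_right _ hz
    have h3 := hle h2
    rw [Ideal.mem_comap, h1, ← hs, map_mul] at h3
    refine (Q'.isPrime.mem_or_mem h3).resolve_right fun h4 => ?_
    exact Q'.isPrime.ne_top (Ideal.eq_top_of_isUnit_mem _ h4
      ((IsLocalization.map_units (X.presheaf.stalk y) s).map _))
  have hlt : ∀ {Q Q' : PrimeSpectrum (X.presheaf.stalk y ⧸ P)}, Q < Q' →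
      Q.asIdeal.comap π' < Q'.asIdeal.comap π' := fun hQ =>
    lt_of_le_not_ge (Ideal.comap_mono hQ.le) fun hge => absurd (hinj _ _ hge) hQ.not_ge
  have htop : ∀ Q : PrimeSpectrum (X.presheaf.stalk y ⧸ P),
      Q.asIdeal.comap π' ≤ q.map (Ideal.Quotient.mk p) := fun Q z hz => by
    obtain ⟨a, rfl⟩ := Ideal.Quotient.mk_surjective z
    refine Ideal.mem_map_of_mem _ (by_contra fun ha => ?_)
    rw [Ideal.mem_comap, show π' (Ideal.Quotient.mk p a) = π a from Ideal.Quotient.lift_mk _ _ _] at hz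
    exact Q.isPrime.ne_top (Ideal.eq_top_of_isUnit_mem _ hz
      ((IsLocalization.map_units (X.presheaf.stalk y) (⟨a, ha⟩ : q.primeCompl)).map (Ideal.Quotient.mk P)))
  obtain ⟨Q0, Q1, Q2, h01, h12⟩ : ∃ Q0 Q1 Q2 : PrimeSpectrum (X.presheaf.stalk y ⧸ P), Q0 < Q1 ∧ Q1 < Q2 :=
    ⟨l ⟨0, by omega⟩, l ⟨1, by omega⟩, l ⟨2, by omega⟩, l.strictMono (by simp [Fin.lt_def]),
      l.strictMono (by simp [Fin.lt_def])⟩
  haveI := Q0.isPrime
  haveI := Q1.isPrime
  haveI := Q2.isPrime
  haveI := Ideal.IsPrime.comap π' (K := Q0.asIdeal)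
  haveI := Ideal.IsPrime.comap π' (K := Q1.asIdeal)
  haveI := Ideal.IsPrime.comap π' (K := Q2.asIdeal)
  have e1 := Ideal.height_add_one_le_of_lt_of_isPrime (hlt h01)
  have e2 := Ideal.height_add_one_le_of_lt_of_isPrime (hlt h12)
  intro hone
  have e3 := Ideal.height_mono (htop Q2)
  rw [hone] at e3
  have : (Q0.asIdeal.comap π').height + 1 + 1 ≤ 1 := ((add_le_add_left e1 1).trans e2).trans e3
  generalize (Q0.asIdeal.comap π').height = d at this
  induction d using ENat.recTopCoe with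
  | top => simp at this
  | coe n => norm_cast at this

theorem smul_Spec_top {R : CommRingCat.{u}} (M : (Spec R).Modules) (a : R) (m : Γ(M, ⊤)) :
    a • m = (Scheme.ΓSpecIso R).inv.hom a • m := by
  rw [Scheme.Modules.smul_Spec_def, Subsingleton.elim (Opens.leTop (⊤ : (Spec R).Opens)) (𝟙 _), op_id,
    CategoryTheory.Functor.map_id]
  rfl

theorem mem_basicOpen_Spec {R : CommRingCat.{u}} (p : PrimeSpectrum R) (a : R) :
    (show ↥(Spec R) from p) ∈ (Spec R).basicOpen ((Scheme.ΓSpecIso R).inv.hom a) ↔ a ∉ p.asIdeal := by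
  erw [basicOpen_eq_of_affine]
  rfl

/-- Finiteness of height one hulls gives coherence on an affine scheme. -/
theorem isCoh_H0_tilde (A : Type u) [CommRing A] [IsNoetherianRing A]
    (hA : ∀ (q : Ideal A) [q.IsPrime], EGA4.HeightOneHullFinite (A ⧸ q)) (M : Type u) [AddCommGroup M]
    [Module A M] [Module.Finite A M] (Z : Set (PrimeSpectrum A)) (hZ : StableUnderSpecialization Z)
    (hht : ∀ x : PrimeSpectrum A, x.asIdeal ∈ associatedPrimes A M → x ∉ Z →
      ∀ y ∈ Z, x.asIdeal ≤ y.asIdeal → (2 : ℕ∞) ≤ (y.asIdeal.map (Ideal.Quotient.mk x.asIdeal)).height) :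
    Coh.IsCoh ((ZClos.H0 (X := Spec (CommRingCat.of A)) Z).obj (EGA4.tildeOf A M)) := by
  let R := CommRingCat.of A
  let F : (Spec R).Modules := EGA4.tildeOf A M
  let H := (ZClos.H0 (X := Spec R) Z).obj F
  haveI : IsLocallyNoetherian (Spec R) := inferInstance
  haveI hq : H.IsQuasicoherent := isQuasicoherent_H0 F
  refine ⟨hq, QCohLib.isFiniteType_iff_Spec.mpr ?_⟩
  letI : Module A Γ(F, ⊤) := Scheme.Modules.instModuleCarrierCarrierObjOppositeOpensCarrierCarrierCommRingCatSpecAbPresheafOp (R := R) (M := F) (U := ⊤)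
  letI : Module A Γ(H, ⊤) := Scheme.Modules.instModuleCarrierCarrierObjOppositeOpensCarrierCarrierCommRingCatSpecAbPresheafOp (R := R) (M := H) (U := ⊤)
  obtain ⟨Φ, hΦ, -⟩ := exists_embedding_sections (Z := Z) hZ F (isAffineOpen_top (Spec R)) (A := A)
    (Scheme.ΓSpecIso R).inv.hom (ConcreteCategory.bijective_of_isIso (Scheme.ΓSpecIso R).inv).2 (fun p => p)
    (fun p => trivial) (fun p a => mem_basicOpen_Spec (R := R) p a) (fun x _ => ⟨x, rfl⟩)
    (fun a m => smul_Spec_top F a m) (fun a m => smul_Spec_top H a m)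
  let e : M ≃ₗ[A] Γ(F, ⊤) := (tilde.isoTop (ModuleCat.of R M)).toLinearEquiv
  haveI : Module.Finite A Γ(F, ⊤) := Module.Finite.equiv e
  haveI := isNoetherian_G ((fun p : PrimeSpectrum A => p) ⁻¹' Z) (M := Γ(F, ⊤))
    (fun a b ha hab => hZ ((PrimeSpectrum.le_iff_specializes a b).mp hab) ha) fun p hp hpZ => by
      refine ⟨hA p.asIdeal, fun y hy hpy h1 => ?_⟩
      have := hht p (e.isAssociatedPrime_iff.mpr hp) hpZ y hy hpy
      rw [h1] at this
      norm_num at this
  exact Module.Finite.of_injective Φ hΦ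

theorem resPush_smul {X : Scheme.{u}} (U W : X.Opens) (M : X.Modules) (r : Γ(X, W)) (t : Γ(M, ZClosLib.cut U W)) :
    (show Γ(M, ZClosLib.cut U W) from r • (show Γ((ZClos.resPush U).obj M, W) from t)) =
      X.presheaf.map (homOfLE (ZClosLib.cut_le U W)).op r • t := by
  refine (ConcreteCategory.congr_hom (Scheme.Modules.smul_restrictAppIso_hom (f := U.ι) M (U.ι ⁻¹ᵁ W)
    (U.ι.app W r)) t).trans ?_
  change (U.ι.appIso _).inv (U.ι.app W r) • t = _
  congr 1
  rw [← ConcreteCategory.comp_apply, Scheme.Hom.app_appIso_inv]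
  rfl

/-- Conversely. -/
theorem heightOneHullFinite_of_isCoh_H0 (A : Type u) [CommRing A] [IsNoetherianRing A] (x : PrimeSpectrum A)
    (h : Coh.IsCoh ((ZClos.H0 (X := Spec (CommRingCat.of A))
      {y : PrimeSpectrum A | x.asIdeal ≤ y.asIdeal ∧ (2 : ℕ∞) ≤ (y.asIdeal.map (Ideal.Quotient.mk x.asIdeal)).height}).obj
        (EGA4.tildeOf A (A ⧸ x.asIdeal))))
    (hZ : StableUnderSpecialization (X := PrimeSpectrum A)
      {y : PrimeSpectrum A | x.asIdeal ≤ y.asIdeal ∧ (2 : ℕ∞) ≤ (y.asIdeal.map (Ideal.Quotient.mk x.asIdeal)).height}) :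
    EGA4.HeightOneHullFinite (A ⧸ x.asIdeal) := by
  classical
  let R := CommRingCat.of A
  let B := A ⧸ x.asIdeal
  let K := FractionRing B
  let Z : Set (PrimeSpectrum A) :=
    {y | x.asIdeal ≤ y.asIdeal ∧ (2 : ℕ∞) ≤ (y.asIdeal.map (Ideal.Quotient.mk x.asIdeal)).height}
  let F : (Spec R).Modules := EGA4.tildeOf A B
  let H := (ZClos.H0 (X := Spec R) Z).obj F
  have hxZ : x ∉ Z := fun h => by
    have h2 := h.2
    rw [Ideal.map_quotient_self, Ideal.height_bot] at h2
    norm_num at h2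
  letI : Module A Γ(F, ⊤) := Scheme.Modules.instModuleCarrierCarrierObjOppositeOpensCarrierCarrierCommRingCatSpecAbPresheafOp (R := R) (M := F) (U := ⊤)
  letI : Module A Γ(H, ⊤) := Scheme.Modules.instModuleCarrierCarrierObjOppositeOpensCarrierCarrierCommRingCatSpecAbPresheafOp (R := R) (M := H) (U := ⊤)
  obtain ⟨Φ, -, hΦ⟩ := exists_embedding_sections (Z := Z) hZ F (isAffineOpen_top (Spec R)) (A := A)
    (Scheme.ΓSpecIso R).inv.hom (ConcreteCategory.bijective_of_isIso (Scheme.ΓSpecIso R).inv).2 (fun p => p)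
    (fun p => trivial) (fun p a => mem_basicOpen_Spec (R := R) p a) (fun x _ => ⟨x, rfl⟩)
    (fun a m => smul_Spec_top F a m) (fun a m => smul_Spec_top H a m)
  haveI : Module.Finite A Γ(H, ⊤) := (@QCohLib.isFiniteType_iff_Spec R H h.1).mp h.2
  let e : B ≃ₗ[A] Γ(F, ⊤) := (tilde.isoTop (ModuleCat.of R B)).toLinearEquiv
  let q : Out ((fun p : PrimeSpectrum A => p) ⁻¹' Z) := ⟨x, hxZ⟩
  -- the coordinate at the generic point of `V(x)`
  let f : Γ(F, ⊤) →ₗ[A] K := (IsScalarTower.toAlgHom A B K).toLinearMap.comp e.symm.toLinearMap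
  have hu : ∀ s : x.asIdeal.primeCompl, IsUnit ((algebraMap A (Module.End A K)) s) := fun s => by
    rw [Module.End.isUnit_iff]
    have h0 : algebraMap A K s ≠ 0 := fun h => s.2 (Ideal.Quotient.eq_zero_iff_mem.mp
      (IsFractionRing.injective B K (((IsScalarTower.algebraMap_apply A B K (s : A)).symm.trans h).trans (map_zero _).symm)))
    refine ⟨fun a b hab => mul_left_cancel₀ h0 ?_, fun b => ⟨(algebraMap A K s)⁻¹ * b, ?_⟩⟩
    · simpa [Module.algebraMap_end_apply, Algebra.smul_def] using hab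
    · simp [Module.algebraMap_end_apply, Algebra.smul_def, mul_inv_cancel_left₀ h0]
  let ψ : Loc _ Γ(F, ⊤) q →ₗ[A] K := LocalizedModule.lift x.asIdeal.primeCompl f hu
  let χ : Γ(H, ⊤) →ₗ[A] K := ψ.comp ((LinearMap.proj q).comp ((G _ Γ(F, ⊤)).subtype.comp Φ))
  let hull : Subalgebra B K :=
    { carrier := EGA4.heightOneHull B
      mul_mem' := fun {a b} ha hb p hp h1 => by
        obtain ⟨s, hs, c, hc⟩ := ha p h1
        obtain ⟨t, ht, d, hd⟩ := hb p h1
        exact ⟨s * t, fun h => (hp.mem_or_mem h).elim hs ht, c * d, by rw [map_mul, map_mul, hc, hd]; ring⟩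
      add_mem' := fun {a b} ha hb p hp h1 => by
        obtain ⟨s, hs, c, hc⟩ := ha p h1
        obtain ⟨t, ht, d, hd⟩ := hb p h1
        exact ⟨s * t, fun h => (hp.mem_or_mem h).elim hs ht, c * t + d * s, by
          rw [map_add, map_mul, map_mul, map_mul, hc, hd]; ring⟩
      algebraMap_mem' := fun r p hp _ => ⟨1, fun h => hp.ne_top ((Ideal.eq_top_iff_one p).mpr h), r, by
        rw [map_one, one_mul]⟩ }
  refine ⟨hull, rfl, ?_⟩
  have hle : (Subalgebra.toSubmodule hull).restrictScalars A ≤ LinearMap.range χ := by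
    intro v hv
    let I : Ideal A :=
      { carrier := {a | ∃ b : B, algebraMap B K b = a • v}
        zero_mem' := ⟨0, by rw [map_zero, zero_smul]⟩
        add_mem' := fun {a b} ⟨c, hc⟩ ⟨d, hd⟩ => ⟨c + d, by rw [map_add, hc, hd, add_smul]⟩
        smul_mem' := fun r a ⟨c, hc⟩ => ⟨r • c, by
          rw [smul_eq_mul, mul_smul, ← hc]
          exact (IsScalarTower.toAlgHom A B K).toLinearMap.map_smul r c⟩ }
    have hT : PrimeSpectrum.zeroLocus (I : Set A) ⊆ Z := fun y hy => by
      have hxy : x.asIdeal ≤ y.asIdeal := fun a ha => hy ⟨0, by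
        rw [map_zero, Algebra.smul_def, IsScalarTower.algebraMap_apply A B K, Ideal.Quotient.algebraMap_eq,
          Ideal.Quotient.eq_zero_iff_mem.mpr ha, map_zero, zero_mul]⟩
      refine ⟨hxy, ?_⟩
      haveI : (y.asIdeal.map (Ideal.Quotient.mk x.asIdeal)).IsPrime :=
        Ideal.map_isPrime_of_surjective Ideal.Quotient.mk_surjective (by rwa [Ideal.mk_ker])
      have hnot : ∀ s : B, s ∉ y.asIdeal.map (Ideal.Quotient.mk x.asIdeal) → ∀ a : B,
          algebraMap B K a ≠ algebraMap B K s * v := fun s hs a ha => by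
        obtain ⟨s, rfl⟩ := Ideal.Quotient.mk_surjective s
        refine hs (Ideal.mem_map_of_mem _ (hy ⟨a, ?_⟩))
        rw [ha, Algebra.smul_def]
        rfl
      by_contra hlt
      generalize hd : (y.asIdeal.map (Ideal.Quotient.mk x.asIdeal)).height = d at hlt
      induction d using ENat.recTopCoe with
      | top => simp at hlt
      | coe n =>
        have hn : n = 0 ∨ n = 1 := by
          have : ¬ (2 : ℕ) ≤ n := fun h => hlt (by exact_mod_cast h)
          omega
        rcases hn with rfl | rfl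
        · obtain ⟨a, b, hb, hab⟩ := IsFractionRing.div_surjective (A := B) v
          refine hnot b ?_ a ?_
          · intro hbm
            have hbot : y.asIdeal.map (Ideal.Quotient.mk x.asIdeal) = ⊥ :=
              by
                have h0 := Ideal.height_eq_zero_iff.mp (show (y.asIdeal.map (Ideal.Quotient.mk x.asIdeal)).height = 0 by
                  rw [hd]; rfl)
                rwa [IsDomain.minimalPrimes_eq_singleton_bot, Set.mem_singleton_iff] at h0
            rw [hbot, Ideal.mem_bot] at hbm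
            exact nonZeroDivisors.ne_zero hb hbm
          · rw [← hab, mul_div_cancel₀ _ ((map_ne_zero_iff _ (IsFractionRing.injective B K)).mpr
              (nonZeroDivisors.ne_zero hb))]
        · obtain ⟨s, hs, a, ha⟩ := hv _ (by rw [hd]; rfl)
          exact hnot s hs a ha
    let T : ZClos.Cl (X := Spec R) Z := ⟨⟨PrimeSpectrum.zeroLocus (I : Set A), PrimeSpectrum.isClosed_zeroLocus _⟩, hT⟩
    obtain ⟨S, hS⟩ := IsNoetherian.noetherian I
    have hmem : ∀ s ∈ S, ∃ b : B, algebraMap B K b = s • v := fun s hs =>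
      show s ∈ I from hS ▸ Submodule.subset_span hs
    choose! bf hbf using hmem
    let ι : A → Γ(Spec R, ⊤) := (Scheme.ΓSpecIso R).inv.hom
    let hfun : Γ(Spec R, ⊤) → Γ(F, ⊤) := fun g => e (bf ((Scheme.ΓSpecIso R).hom g))
    have hι : ∀ a : A, (Scheme.ΓSpecIso R).hom (ι a) = a := fun a => Iso.inv_hom_id_apply (Scheme.ΓSpecIso R) a
    have hs1 : ∀ (a : A) (m : Γ(F, ⊤)), ι a • m = a • m := fun a m => by
      erw [Scheme.Modules.smul_Spec_def]; erw [(Spec R).presheaf.map_id]; rfl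
    have hswap : ∀ f ∈ S, ∀ f' ∈ S, f • bf f' = f' • bf f := fun f hf f' hf' => by
      apply IsFractionRing.injective B K
      erw [(IsScalarTower.toAlgHom A B K).toLinearMap.map_smul f (bf f'),
        (IsScalarTower.toAlgHom A B K).toLinearMap.map_smul f' (bf f)]
      change f • algebraMap B K (bf f') = f' • algebraMap B K (bf f)
      rw [hbf f hf, hbf f' hf', smul_comm]
    have hN : ∀ z : PrimeSpectrum A, z ∈ ZClosLib.cut T.U (⊤ : (Spec R).Opens) →
        ∃ f ∈ S, f ∉ z.asIdeal := fun z hz => by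
      by_contra! hall
      refine (ZClosLib.mem_cut.mp hz).1 (?_ : z ∈ PrimeSpectrum.zeroLocus (I : Set A))
      rw [← hS, PrimeSpectrum.zeroLocus_span]
      exact fun f hf => hall f hf
    obtain ⟨t, ht⟩ := DepthSections.exists_glue_div F (W := ⊤) (N := ZClosLib.cut T.U ⊤) le_top
      (S.image ι) hfun (fun g hg g' hg' => by
        obtain ⟨f, hfS, rfl⟩ := Finset.mem_image.mp hg
        obtain ⟨f', hfS', rfl⟩ := Finset.mem_image.mp hg'
        simp only [hfun]
        erw [hι, hι, hs1, hs1, ← e.map_smul, ← e.map_smul, hswap f hfS f' hfS'])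
      (fun z hz => by
        obtain ⟨f, hf, hfz⟩ := hN z hz
        exact ⟨ι f, Finset.mem_image_of_mem _ hf, by erw [basicOpen_eq_of_affine]; exact hfz⟩)
    obtain ⟨f₀, hf₀, hf₀x⟩ := hN x (ZClosLib.mem_cut.mpr ⟨fun h => hxZ (hT h), trivial⟩)
    let n : Γ(H, ⊤) := (ZClosLib.inc F T).app ⊤ t
    refine ⟨n, ?_⟩
    have hrel : f₀ • n = (ZClos.rhoApp (X := Spec R) Z F).app ⊤ (e (bf f₀)) := by
      rw [ZClosLib.rho_app_eq T]
      have e1 : ((ZClos.resPush T.U).obj F).presheaf.obj (op (⊤ : (Spec R).Opens)) = Γ(F, ZClosLib.cut T.U ⊤) := rfl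
      refine (smul_Spec_top H f₀ n).trans ?_
      refine (Scheme.Modules.Hom.app_smul (ZClosLib.inc F T) _ _).symm.trans ?_
      congr 1
      refine (resPush_smul (X := Spec R) T.U ⊤ F (ι f₀) t).trans ?_
      refine QCohLib.section_ext _ _ fun z hz => ?_
      erw [germ_smul, TopCat.Presheaf.germ_res_apply]
      rw [ZClosLib.germ_res]
      obtain ⟨f, hf, hfz⟩ := hN z hz
      have hu : IsUnit ((Spec R).presheaf.germ ⊤ z trivial (ι f)) :=
        ((Spec R).mem_basicOpen (ι f) z trivial).mp (by erw [basicOpen_eq_of_affine]; exact hfz)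
      refine hu.smul_left_cancel.mp ?_
      have h1 := ht (ι f) (Finset.mem_image_of_mem _ hf) z hz (by erw [basicOpen_eq_of_affine]; exact hfz)
      rw [smul_comm]
      erw [h1]
      rw [← germ_smul, ← germ_smul]
      congr 1
      simp only [hfun]
      erw [hι, hs1, hs1, ← e.map_smul, ← e.map_smul, hswap f₀ hf₀ f hf]
    have h1 := congrArg ψ (hΦ n q f₀ _ hrel)
    rw [map_smul] at h1
    have h2 : ψ (toLoc _ Γ(F, ⊤) q (e (bf f₀))) = f₀ • v := by
      rw [show ψ (toLoc _ Γ(F, ⊤) q (e (bf f₀))) = f (e (bf f₀)) from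
        LinearMap.congr_fun (LocalizedModule.lift_comp x.asIdeal.primeCompl f hu) _, ← hbf f₀ hf₀]
      change algebraMap B K (e.symm (e (bf f₀))) = _
      rw [e.symm_apply_apply]
    rw [h2] at h1
    exact ((Module.End.isUnit_iff _).mp (hu ⟨f₀, hf₀x⟩)).1 h1
  haveI : IsNoetherian A (LinearMap.range χ) := isNoetherian_of_isNoetherianRing_of_finite A _
  haveI : IsNoetherian A ((Subalgebra.toSubmodule hull).restrictScalars A) := isNoetherian_of_le hle
  haveI : Module.Finite A (Subalgebra.toSubmodule hull) :=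
    inferInstanceAs (Module.Finite A ((Subalgebra.toSubmodule hull).restrictScalars A))
  exact Module.Finite.of_restrictScalars_finite A B (Subalgebra.toSubmodule hull)

end Groth.Agent.ZClosFin
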