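import Groth.Prelude.Def_EGA4b
import Groth.Agent.CTensorRed.Reduced
import Mathlib

/-! The module of families of germs outside a specialisation stable set of primes, and its finiteness. -/

set_option autoImplicit false
set_option linter.style.haveILetI false
universe u

namespace Groth.Agent.ZClosFin

variable {A : Type u} [CommRing A] (Z : Set (PrimeSpectrum A))

/-- The points outside `Z`. -/
abbrev Out : Type u := {p : PrimeSpectrum A // p ∉ Z}

/-- The localisation of `M` at a point. -/
abbrev Loc (M : Type u) [AddCommGroup M] [Module A M] (p : Out Z) : Type u :=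
  LocalizedModule p.1.asIdeal.primeCompl M

/-- The localisation map. -/
noncomputable abbrev toLoc (M : Type u) [AddCommGroup M] [Module A M] (p : Out Z) : M →ₗ[A] Loc Z M p :=
  LocalizedModule.mkLinearMap p.1.asIdeal.primeCompl M

section

variable {M N P : Type u} [AddCommGroup M] [Module A M] [AddCommGroup N] [Module A N] [AddCommGroup P] [Module A P]

/-- Families of germs which are locally fractions with a common denominator. -/
def G (M : Type u) [AddCommGroup M] [Module A M] : Submodule A (∀ p : Out Z, Loc Z M p) where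
  carrier := {m | ∀ y : Out Z, ∃ s ∉ y.1.asIdeal, ∃ a : M, ∀ p : Out Z, s ∉ p.1.asIdeal → s • m p = toLoc Z M p a}
  zero_mem' y := ⟨1, (Ideal.ne_top_iff_one _).mp y.1.isPrime.ne_top, 0, fun p _ => by simp⟩
  add_mem' {m n} hm hn y := by
    obtain ⟨s, hs, a, ha⟩ := hm y
    obtain ⟨t, ht, b, hb⟩ := hn y
    refine ⟨s * t, fun h => (y.1.isPrime.mem_or_mem h).elim hs ht, t • a + s • b, fun p hp => ?_⟩
    rw [Pi.add_apply, smul_add, mul_smul, mul_smul, smul_comm s t (m p),
      ha p fun h => hp (p.1.asIdeal.mul_mem_right t h), hb p fun h => hp (p.1.asIdeal.mul_mem_left s h),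
      map_add, map_smul, map_smul]
  smul_mem' c m hm y := by
    obtain ⟨s, hs, a, ha⟩ := hm y
    exact ⟨s, hs, c • a, fun p hp => by rw [Pi.smul_apply, smul_comm, ha p hp, map_smul]⟩

/-- The map on localisations. -/
noncomputable def locMap (f : M →ₗ[A] N) (p : Out Z) : Loc Z M p →ₗ[A] Loc Z N p :=
  IsLocalizedModule.map p.1.asIdeal.primeCompl (toLoc Z M p) (toLoc Z N p) f

theorem locMap_toLoc (f : M →ₗ[A] N) (p : Out Z) (a : M) : locMap Z f p (toLoc Z M p a) = toLoc Z N p (f a) :=
  IsLocalizedModule.map_apply _ _ _ _ _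

theorem smul_cancel {p : Out Z} {s : A} (hs : s ∉ p.1.asIdeal) {x y : Loc Z M p} (h : s • x = s • y) : x = y :=
  ((Module.End.isUnit_iff _).mp (IsLocalizedModule.map_units (toLoc Z M p) (⟨s, hs⟩ : p.1.asIdeal.primeCompl))).1 h

theorem locMap_mem (f : M →ₗ[A] N) {m : ∀ p : Out Z, Loc Z M p} (hm : m ∈ G Z M) :
    (fun p => locMap Z f p (m p)) ∈ G Z N := fun y => by
  obtain ⟨s, hs, a, ha⟩ := hm y
  exact ⟨s, hs, f a, fun p hp => by rw [← map_smul, ha p hp, locMap_toLoc]⟩

/-- Functoriality. -/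
noncomputable def Gmap (f : M →ₗ[A] N) : G Z M →ₗ[A] G Z N where
  toFun m := ⟨fun p => locMap Z f p (m.1 p), locMap_mem Z f m.2⟩
  map_add' m n := Subtype.ext (funext fun p => map_add (locMap Z f p) _ _)
  map_smul' c m := Subtype.ext (funext fun p => map_smul (locMap Z f p) _ _)

theorem Gmap_injective {f : M →ₗ[A] N} (hf : Function.Injective f) : Function.Injective (Gmap Z f) :=
  fun _ _ h => Subtype.ext (funext fun p =>
    IsLocalizedModule.map_injective p.1.asIdeal.primeCompl (toLoc Z M p) (toLoc Z N p) f hf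
      (congrFun (congrArg Subtype.val h) p))

/-- Left exactness. -/
theorem isNoetherian_of_exact (f : M →ₗ[A] N) (g : N →ₗ[A] P) (hf : Function.Injective f)
    (h : Function.Exact f g) [IsNoetherian A (G Z M)] [IsNoetherian A (G Z P)] : IsNoetherian A (G Z N) := by
  refine isNoetherian_of_range_eq_ker (Gmap Z f) (Gmap Z g) (le_antisymm ?_ ?_)
  · rintro _ ⟨m, rfl⟩
    refine Subtype.ext (funext fun p => ?_)
    exact ((IsLocalizedModule.map_exact p.1.asIdeal.primeCompl (toLoc Z M p) (toLoc Z N p) (toLoc Z P p) f g h)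
      (locMap Z f p (m.1 p))).mpr ⟨_, rfl⟩
  · intro n hn
    have hp : ∀ p : Out Z, ∃ m, locMap Z f p m = n.1 p := fun p =>
      ((IsLocalizedModule.map_exact p.1.asIdeal.primeCompl (toLoc Z M p) (toLoc Z N p) (toLoc Z P p) f g h)
        (n.1 p)).mp (congrFun (congrArg Subtype.val hn) p)
    choose m hm using hp
    refine ⟨⟨m, fun y => ?_⟩, Subtype.ext (funext hm)⟩
    obtain ⟨s, hs, a, ha⟩ := n.2 y
    have h0 : toLoc Z P y (g a) = 0 := by
      rw [← locMap_toLoc, ← ha y hs, map_smul]
      have : locMap Z g y (n.1 y) = 0 := congrFun (congrArg Subtype.val hn) y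
      rw [this, smul_zero]
    obtain ⟨t, ht⟩ := (IsLocalizedModule.eq_zero_iff y.1.asIdeal.primeCompl (toLoc Z P y)).mp h0
    rw [Submonoid.smul_def, ← map_smul] at ht
    obtain ⟨b, hb⟩ := (h _).mp ht
    refine ⟨(t : A) * s, fun h' => (y.1.isPrime.mem_or_mem h').elim t.2 hs, b, fun p hp => ?_⟩
    apply IsLocalizedModule.map_injective p.1.asIdeal.primeCompl (toLoc Z M p) (toLoc Z N p) f hf
    change locMap Z f p _ = locMap Z f p _
    rw [map_smul, locMap_toLoc, hb, map_smul, hm, mul_smul, ha p fun h' => hp (p.1.asIdeal.mul_mem_left _ h')]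

theorem eq_zero_of_killed {I : Ideal A} (hI : ∀ a ∈ I, ∀ x : M, a • x = 0) {p : Out Z} (hIp : ¬ I ≤ p.1.asIdeal)
    (x : Loc Z M p) : x = 0 := by
  obtain ⟨r, hr, hrp⟩ := Set.not_subset.mp hIp
  induction x using LocalizedModule.induction_on with
  | h m s =>
    apply smul_cancel Z hrp
    rw [smul_zero, LocalizedModule.smul'_mk, hI r hr, LocalizedModule.zero_mk]

theorem subsingleton_G_of_killed {I : Ideal A} (hI : ∀ a ∈ I, ∀ x : M, a • x = 0)
    (hZ : PrimeSpectrum.zeroLocus (I : Set A) ⊆ Z) : Subsingleton (G Z M) :=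
  subsingleton_of_forall_eq 0 fun m => Subtype.ext (funext fun p =>
    eq_zero_of_killed Z hI (fun hle => p.2 (hZ hle)) _)

theorem isNoetherian_G_fin (h : IsNoetherian A (G Z M)) (n : ℕ) : IsNoetherian A (G Z (Fin n → M)) := by
  induction n with
  | zero =>
    have : Subsingleton (G Z (Fin 0 → M)) :=
      subsingleton_G_of_killed Z (I := ⊤) (fun a _ x => Subsingleton.elim _ _) (by simp)
    infer_instance
  | succ n ih =>
    refine isNoetherian_of_exact Z (LinearMap.single A (fun _ : Fin (n + 1) => M) 0)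
      (LinearMap.funLeft A M Fin.succ) (LinearMap.ker_eq_bot.mp (LinearMap.ker_single A (fun _ : Fin (n + 1) => M) 0))
      fun v => ⟨fun hv => ⟨v 0, funext fun i => ?_⟩, ?_⟩
    · refine Fin.cases ?_ (fun j => ?_) i
      · simp
      · have := congrFun hv j
        simp only [LinearMap.funLeft_apply, Pi.zero_apply] at this
        simp [this]
    · rintro ⟨a, rfl⟩
      exact funext fun j => by simp [LinearMap.funLeft_apply]

end

/-- The domain case. -/
theorem isNoetherian_G_quotient [IsNoetherianRing A] (x : PrimeSpectrum A) (hxZ : x ∉ Z)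
    (hfin : EGA4.HeightOneHullFinite (A ⧸ x.asIdeal))
    (hht : ∀ y ∈ Z, x.asIdeal ≤ y.asIdeal → (y.asIdeal.map (Ideal.Quotient.mk x.asIdeal)).height ≠ 1) :
    IsNoetherian A (G Z (A ⧸ x.asIdeal)) := by
  obtain ⟨H, hH, hHfin⟩ := hfin
  let B := A ⧸ x.asIdeal
  let K := FractionRing B
  let q : Out Z := ⟨x, hxZ⟩
  let f : B →ₗ[A] K := (IsScalarTower.toAlgHom A B K).toLinearMap
  have hne : ∀ s : A, s ∉ x.asIdeal → algebraMap A K s ≠ 0 := fun s hs h => hs (by
    rw [IsScalarTower.algebraMap_apply A B K] at h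
    exact Ideal.Quotient.eq_zero_iff_mem.mp (IsFractionRing.injective B K (h.trans (map_zero _).symm)))
  have hu : ∀ s : x.asIdeal.primeCompl, IsUnit ((algebraMap A (Module.End A K)) s) := fun s => by
    rw [Module.End.isUnit_iff]
    have h0 := hne s s.2
    refine ⟨fun a b hab => mul_left_cancel₀ h0 ?_, fun b => ⟨(algebraMap A K s)⁻¹ * b, ?_⟩⟩
    · simpa [Module.algebraMap_end_apply, Algebra.smul_def] using hab
    · simp [Module.algebraMap_end_apply, Algebra.smul_def, mul_inv_cancel_left₀ h0]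
  let ψ : Loc Z B q →ₗ[A] K := LocalizedModule.lift x.asIdeal.primeCompl f hu
  have hψ : ∀ b : B, ψ (toLoc Z B q b) = algebraMap B K b := fun b =>
    LinearMap.congr_fun (LocalizedModule.lift_comp x.asIdeal.primeCompl f hu) b
  let Φ : G Z B →ₗ[A] K := ψ.comp ((LinearMap.proj q).comp (G Z B).subtype)
  have hkill : ∀ a ∈ x.asIdeal, ∀ b : B, a • b = 0 := fun a ha b => by
    rw [Algebra.smul_def, Ideal.Quotient.algebraMap_eq, Ideal.Quotient.eq_zero_iff_mem.mpr ha, zero_mul]
  have hinj : Function.Injective Φ := by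
    refine (injective_iff_map_eq_zero Φ).mpr fun m hm => Subtype.ext (funext fun p => ?_)
    by_cases hle : x.asIdeal ≤ p.1.asIdeal
    · obtain ⟨s, hs, a, ha⟩ := m.2 p
      have h1 := congrArg ψ (ha q fun h => hs (hle h))
      rw [map_smul, hψ, show ψ (m.1 q) = 0 from hm, smul_zero] at h1
      have ha0 : a = 0 := IsFractionRing.injective B K (h1.symm.trans (map_zero _).symm)
      apply smul_cancel Z hs
      rw [ha p hs, ha0, map_zero]
      exact (smul_zero _).symm
    · exact eq_zero_of_killed Z hkill hle _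
  have hrange : LinearMap.range Φ ≤ (Subalgebra.toSubmodule H).restrictScalars A := by
    rintro _ ⟨m, rfl⟩
    change Φ m ∈ (H : Set K)
    rw [hH]
    intro P hP hP1
    let y : PrimeSpectrum A := ⟨P.comap (Ideal.Quotient.mk x.asIdeal), Ideal.IsPrime.comap _⟩
    have hxy : x.asIdeal ≤ y.asIdeal := fun a ha => by
      change Ideal.Quotient.mk x.asIdeal a ∈ P
      rw [Ideal.Quotient.eq_zero_iff_mem.mpr ha]
      exact P.zero_mem
    have hy : y ∉ Z := fun h => hht y h hxy (by
      rw [show y.asIdeal.map (Ideal.Quotient.mk x.asIdeal) = P from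
        Ideal.map_comap_of_surjective _ Ideal.Quotient.mk_surjective P]
      exact hP1)
    obtain ⟨s, hs, a, ha⟩ := m.2 ⟨y, hy⟩
    refine ⟨Ideal.Quotient.mk x.asIdeal s, hs, a, ?_⟩
    have h1 := congrArg ψ (ha q fun h => hs (hxy h))
    rw [map_smul, hψ] at h1
    change algebraMap B K a = _
    rw [← h1, Algebra.smul_def, IsScalarTower.algebraMap_apply A B K]
    rfl
  have : Module.Finite B (Subalgebra.toSubmodule H) := hHfin
  have : Module.Finite A (Subalgebra.toSubmodule H) := Module.Finite.trans B _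
  have : IsNoetherian A ((Subalgebra.toSubmodule H).restrictScalars A) := isNoetherian_of_isNoetherianRing_of_finite A (Subalgebra.toSubmodule H)
  exact isNoetherian_of_injective (LinearMap.codRestrict _ Φ fun m => hrange ⟨m, rfl⟩)
    fun a b h => hinj (congrArg Subtype.val h)

theorem associatedPrime_pi [IsNoetherianRing A] {M : Type u} [AddCommGroup M] [Module A M] {n : ℕ} {p : Ideal A}
    (h : p ∈ associatedPrimes A (Fin n → M)) : p ∈ associatedPrimes A M := by
  obtain ⟨hp, z, hz⟩ := isAssociatedPrime_iff.mp h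
  have he : p = Finset.univ.inf fun i => Submodule.colon (⊥ : Submodule A M) {z i} := by
    ext r
    simp [hz, Submodule.mem_colon_singleton, Submodule.mem_finsetInf, funext_iff]
  obtain ⟨i, -, hi⟩ := hp.inf_le'.mp he.ge
  exact isAssociatedPrime_iff.mpr ⟨hp, z i, le_antisymm (he.le.trans (Finset.inf_le (Finset.mem_univ i))) hi⟩

/-- Finiteness for modules whose associated primes outside `Z` are good. -/
theorem isNoetherian_G [IsNoetherianRing A] (hup : ∀ a b : PrimeSpectrum A, a ∈ Z → a ≤ b → b ∈ Z)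
    {M : Type u} [AddCommGroup M] [Module A M] [Module.Finite A M]
    (hcond : ∀ x : PrimeSpectrum A, x.asIdeal ∈ associatedPrimes A M → x ∉ Z →
      EGA4.HeightOneHullFinite (A ⧸ x.asIdeal) ∧
        ∀ y ∈ Z, x.asIdeal ≤ y.asIdeal → (y.asIdeal.map (Ideal.Quotient.mk x.asIdeal)).height ≠ 1) :
    IsNoetherian A (G Z M) := by
  suffices H : ∀ K : Submodule A M, associatedPrimes A (M ⧸ K) ⊆ associatedPrimes A M →
      IsNoetherian A (G Z (M ⧸ K)) by
    have e := Submodule.quotEquivOfEqBot (⊥ : Submodule A M) rfl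
    have := H ⊥ (associatedPrimes.subset_of_injective e.injective)
    exact isNoetherian_of_injective (Gmap Z e.symm.toLinearMap) (Gmap_injective Z e.symm.injective)
  intro K
  induction K using IsNoetherian.induction with
  | _ K ih => ?_
  intro hK
  rcases subsingleton_or_nontrivial (M ⧸ K) with hs | hn
  · have : Subsingleton (G Z (M ⧸ K)) :=
      subsingleton_G_of_killed Z (I := ⊤) (fun _ _ _ => Subsingleton.elim _ _) (by simp)
    infer_instance
  -- a maximal associated prime
  obtain ⟨p, hp, hmax⟩ := (set_has_maximal_iff_noetherian.mpr (inferInstance : IsNoetherian A A))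
    (associatedPrimes A (M ⧸ K)) (associatedPrimes.nonempty A (M ⧸ K))
  haveI := hp.isPrime
  obtain ⟨r, c, hc⟩ := Submodule.fg_iff_exists_fin_generating_family.mp (IsNoetherian.noetherian p)
  let g : (M ⧸ K) →ₗ[A] (Fin r → M ⧸ K) := LinearMap.pi fun i => c i • LinearMap.id
  let J : Submodule A M := LinearMap.ker (g ∘ₗ K.mkQ)
  have hKJ : K ≤ J := fun z hz => by
    rw [LinearMap.mem_ker, LinearMap.comp_apply, (Submodule.Quotient.mk_eq_zero K).mpr hz |> fun h => (show K.mkQ z = 0 from h), map_zero]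
  have hker : ∀ z : M ⧸ K, g z = 0 ↔ ∀ a ∈ p, a • z = 0 := fun z => by
    refine ⟨fun h a ha => ?_, fun h => funext fun i => h _ (hc ▸ Submodule.subset_span ⟨i, rfl⟩)⟩
    have : p ≤ LinearMap.ker (LinearMap.toSpanSingleton A (M ⧸ K) z) := by
      rw [← hc, Submodule.span_le]
      rintro _ ⟨i, rfl⟩
      exact congrFun h i
    exact this ha
  let N := LinearMap.ker g
  obtain ⟨z, hz0, hzp⟩ : ∃ z : M ⧸ K, z ≠ 0 ∧ ∀ a ∈ p, a • z = 0 := by
    obtain ⟨hp', z, hz⟩ := isAssociatedPrime_iff.mp hp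
    refine ⟨z, fun h0 => hp'.ne_top ((Ideal.eq_top_iff_one p).mpr ?_), fun a ha => ?_⟩
    · rw [hz, h0]; simp [Submodule.mem_colon_singleton]
    · rw [hz] at ha; simpa [Submodule.mem_colon_singleton] using ha
  have hJlt : K < J := by
    refine lt_of_le_of_ne hKJ fun h => hz0 ?_
    obtain ⟨m, rfl⟩ := K.mkQ_surjective z
    refine (Submodule.Quotient.mk_eq_zero K).mpr (h ▸ ?_)
    exact (hker _).mpr hzp
  let π : (M ⧸ K) →ₗ[A] (M ⧸ J) := K.liftQ J.mkQ (by rw [Submodule.ker_mkQ]; exact hKJ)
  have hex : Function.Exact N.subtype π := fun w => by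
    obtain ⟨m, rfl⟩ := K.mkQ_surjective w
    change J.mkQ m = 0 ↔ _
    rw [Submodule.mkQ_apply, Submodule.Quotient.mk_eq_zero]
    exact ⟨fun h => ⟨⟨_, h⟩, rfl⟩, fun ⟨a, ha⟩ => show g (K.mkQ m) = 0 from ha ▸ a.2⟩
  let hj : (M ⧸ J) →ₗ[A] (Fin r → M ⧸ K) := J.liftQ (g ∘ₗ K.mkQ) le_rfl
  have hjinj : Function.Injective hj := LinearMap.ker_eq_bot.mp (Submodule.ker_liftQ_eq_bot _ _ _ le_rfl)
  haveI : IsNoetherian A (G Z (M ⧸ J)) := ih J hJlt fun P hP =>
    hK (associatedPrime_pi (associatedPrimes.subset_of_injective hjinj hP))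
  suffices hN : IsNoetherian A (G Z N) from isNoetherian_of_exact Z N.subtype π Subtype.val_injective hex
  have hNkill : ∀ a ∈ p, ∀ w : N, a • w = 0 := fun a ha w => Subtype.ext ((hker _).mp w.2 a ha)
  by_cases hpZ : (⟨p, inferInstance⟩ : PrimeSpectrum A) ∈ Z
  · have : Subsingleton (G Z N) := subsingleton_G_of_killed Z hNkill fun y hy => hup _ y hpZ hy
    infer_instance
  let x : PrimeSpectrum A := ⟨p, inferInstance⟩
  obtain ⟨hfin, hht⟩ := hcond x (hK hp) hpZ
  letI : Module (A ⧸ p) N := Module.IsTorsionBySet.module fun w a => hNkill a.1 a.2 w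
  haveI : IsScalarTower A (A ⧸ p) N := Module.IsTorsionBySet.isScalarTower _
  haveI : Module.Finite (A ⧸ p) N := Module.Finite.of_restrictScalars_finite A (A ⧸ p) N
  obtain ⟨n, e, he⟩ := CTensorRed.exists_free_embedding (A ⧸ p) N fun b w hbw => by
    obtain ⟨a, rfl⟩ := Ideal.Quotient.mk_surjective b
    by_contra hcon
    rw [not_or] at hcon
    have haw : a • w = 0 := hbw
    have hw0 : (w : M ⧸ K) ≠ 0 := fun h => hcon.2 (Subtype.ext h)
    obtain ⟨P, hP, hle⟩ := exists_le_isAssociatedPrime_of_isNoetherianRing A (w : M ⧸ K) hw0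
    have hpP : p ≤ P := fun t ht => hle (Submodule.mem_colon_singleton.mpr (by
      simpa using (hker _).mp w.2 t ht))
    have haP : a ∈ P := hle (Submodule.mem_colon_singleton.mpr (by simpa using congrArg Subtype.val haw))
    have hPp : p = P := by
      by_contra hne
      exact hmax P hP (lt_of_le_of_ne hpP hne)
    exact hcon.1 (Ideal.Quotient.eq_zero_iff_mem.mpr (hPp ▸ haP))
  haveI := isNoetherian_G_fin Z (isNoetherian_G_quotient Z x hpZ hfin hht) n
  exact isNoetherian_of_injective (Gmap Z (e.restrictScalars A)) (Gmap_injective Z he)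

end Groth.Agent.ZClosFin
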